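import Cfsg.Agent.Lib.Char.Monomial
import Cfsg.Agent.Lib.Char.GaloisConj
import Cfsg.Agent.Lib.Char.Orth
import Cfsg.Agent.Lib.CharTools.Basic
import Mathlib.FieldTheory.IntermediateField.Adjoin.Basic
import Mathlib.FieldTheory.Extension
import Mathlib.Algebra.Algebra.Hom.Rat
import Mathlib.Algebra.Group.Subgroup.Order
import Mathlib.GroupTheory.Nilpotent
import Mathlib.GroupTheory.PGroup
import Mathlib.GroupTheory.Sylow
import Mathlib.RingTheory.IntegralDomain

/-!
# The order of a finite `p`-group through the degree and field of a faithful irreducible character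
-/

set_option autoImplicit false

namespace CfsgLib.PGroupField

open Cfsg
open scoped Classical ComplexConjugate

universe u

/-- The functions `g ↦ f (g ^ k)` for `k` prime to `N`. -/
noncomputable def powConj {P : Type u} [Group P] (N : ℕ) (f : P → ℂ) : Finset (P → ℂ) :=
  ((Finset.range N).filter fun k => k.Coprime N).image fun k g => f (g ^ k)

variable {P : Type u} [Group P] [Finite P]

omit [Finite P] in
theorem mem_powConj {N : ℕ} (hN : 0 < N) (hdvd : ∀ g : P, orderOf g ∣ N) {f φ : P → ℂ} :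
    φ ∈ powConj N f ↔ ∃ k, k.Coprime N ∧ φ = fun g => f (g ^ k) := by
  simp only [powConj, Finset.mem_image, Finset.mem_filter, Finset.mem_range]
  constructor
  · rintro ⟨k, ⟨-, hk⟩, rfl⟩
    exact ⟨k, hk, rfl⟩
  · rintro ⟨k, hk, rfl⟩
    refine ⟨k % N, ⟨Nat.mod_lt _ hN, (ZMod.coprime_mod_iff_coprime k N).2 hk⟩, funext fun g => ?_⟩
    rw [← pow_mod_orderOf g (k % N), Nat.mod_mod_of_dvd _ (hdvd g), pow_mod_orderOf]

/-- The degree of the field of values is the number of Galois conjugates. -/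
theorem finrank_adjoin {N : ℕ} (hN : 0 < N) (hdvd : ∀ g : P, orderOf g ∣ N) {f : P → ℂ}
    (hf : IsCharacter P f) :
    Module.finrank ℚ (IntermediateField.adjoin ℚ (Set.range f)) = (powConj N f).card := by
  obtain ⟨n, ρ, rfl⟩ := hf
  set ζ := Complex.exp (2 * Real.pi * Complex.I / N)
  have hζ : IsPrimitiveRoot ζ N := Complex.isPrimitiveRoot_exp N hN.ne'
  set L := IntermediateField.adjoin ℚ ({ζ} : Set ℂ)
  have hζL : ζ ∈ L := IntermediateField.mem_adjoin_simple_self ℚ ζ
  set E := IntermediateField.adjoin ℚ (Set.range ρ.character)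
  haveI : NeZero N := ⟨hN.ne'⟩
  have hint : IsIntegral ℚ ζ :=
    IsIntegral.of_pow hN (by rw [hζ.pow_eq_one]; exact isIntegral_one)
  haveI : FiniteDimensional ℚ L := IntermediateField.adjoin.finiteDimensional hint
  have hval : ∀ g : P, ∃ e : Fin (Module.finrank ℂ (Fin n → ℂ)) → ℕ,
      ∀ k : ℕ, ρ.character (g ^ k) = ∑ i, (ζ ^ e i) ^ k := by
    intro g
    obtain ⟨μ, hμ, -, -, hpow⟩ := CfsgLib.Char.exists_eigenvalues ρ g
    have hμN : ∀ i, μ i ^ N = 1 := fun i => by
      obtain ⟨c, hc⟩ := hdvd g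
      rw [hc, pow_mul, hμ, one_pow]
    choose e he hee using fun i => hζ.eq_pow_of_pow_eq_one (hμN i)
    exact ⟨e, fun k => by rw [hpow]; simp [hee]⟩
  have hEL : E ≤ L := IntermediateField.adjoin_le_iff.2 (by
    rintro _ ⟨g, rfl⟩
    obtain ⟨e, he⟩ := hval g
    have h1 := he 1
    simp only [pow_one] at h1
    rw [h1]
    exact sum_mem fun i _ => pow_mem hζL _)
  haveI : FiniteDimensional ℚ E :=
    FiniteDimensional.of_injective (IntermediateField.inclusion hEL).toLinearMap
      (IntermediateField.inclusion hEL).injective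
  rw [← AlgHom.card ℚ E ℂ, Fintype.card_eq_nat_card]
  have hgen : ∀ g : P, ρ.character g ∈ E := fun g =>
    IntermediateField.subset_adjoin ℚ _ ⟨g, rfl⟩
  have hfun : ∀ σ : E →ₐ[ℚ] ℂ, (fun g => σ ⟨_, hgen g⟩) ∈ powConj N ρ.character := by
    intro σ
    obtain ⟨φ, hφ⟩ := IntermediateField.exists_algHom_adjoin_of_splits (S := ({ζ} : Set ℂ))
      (fun s hs => ⟨by rw [Set.mem_singleton_iff.1 hs]; exact hint,
        IsAlgClosed.splits _⟩) σ hEL
    have hroot : IsPrimitiveRoot (φ ⟨ζ, hζL⟩) N := by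
      refine IsPrimitiveRoot.map_of_injective (f := φ) ?_ φ.injective
      exact IsPrimitiveRoot.of_map_of_injective (f := L.val) hζ L.val.injective
    obtain ⟨k, -, hk, hke⟩ := hζ.isPrimitiveRoot_iff.1 hroot
    refine (mem_powConj hN hdvd).2 ⟨k, hk, funext fun g => ?_⟩
    obtain ⟨e, he⟩ := hval g
    have h1 := he 1
    simp only [pow_one] at h1
    refine (DFunLike.congr_fun hφ _).symm.trans ?_
    show φ (IntermediateField.inclusion hEL ⟨_, hgen g⟩) = _
    have hsum : (IntermediateField.inclusion hEL) ⟨_, hgen g⟩ = ∑ i, (⟨ζ, hζL⟩ : L) ^ e i := by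
      refine Subtype.ext ?_
      rw [IntermediateField.coe_inclusion, AddSubmonoidClass.coe_finsetSum]
      exact h1
    rw [hsum, map_sum, he]
    refine Finset.sum_congr rfl fun i _ => ?_
    rw [map_pow, ← hke, ← pow_mul, ← pow_mul, mul_comm]
  rw [← Fintype.card_coe, Fintype.card_eq_nat_card]
  refine Nat.card_eq_of_bijective (fun σ => (⟨_, hfun σ⟩ : powConj N ρ.character)) ⟨?_, ?_⟩
  · intro σ τ hστ
    refine IntermediateField.algHom_ext_of_eq_adjoin ℚ (S := E) rfl fun y hy => ?_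
    obtain ⟨g, rfl⟩ := hy
    exact congrFun (congrArg Subtype.val hστ) g
  · rintro ⟨φ, hφ⟩
    obtain ⟨k, hk, rfl⟩ := (mem_powConj hN hdvd).1 hφ
    obtain ⟨σ, hσ⟩ := CfsgLib.CharGalois.exists_ringEquiv_pow hN hk
    refine ⟨(σ.toRingHom.toRatAlgHom).comp E.val, Subtype.ext (funext fun g => ?_)⟩
    obtain ⟨e, he⟩ := hval g
    have h1 := he 1
    simp only [pow_one] at h1
    show σ (ρ.character g) = ρ.character (g ^ k)
    rw [h1, he, map_sum]
    refine Finset.sum_congr rfl fun i _ => hσ _ ?_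
    rw [← pow_mul, mul_comm, pow_mul, hζ.pow_eq_one, one_pow]

/-- A coatom of a finite `p`-group has index `p`. -/
theorem index_of_coatom {p : ℕ} [hp : Fact p.Prime] (hP : IsPGroup p P) {H : Subgroup P}
    (hH : IsCoatom H) : H.Normal ∧ H.index = p := by
  haveI := hP.isNilpotent
  have hn : H.Normal := Subgroup.NormalizerCondition.normal_of_coatom H Group.normalizerCondition_of_isNilpotent hH
  refine ⟨hn, ?_⟩
  obtain ⟨j, hj⟩ := hP.index H
  have hj0 : j ≠ 0 := by
    rintro rfl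
    exact hH.1 (Subgroup.index_eq_one.1 (by rw [hj, pow_zero]))
  obtain ⟨Q, hQ⟩ := Sylow.exists_subgroup_card_pow_prime p (G := P ⧸ H) (n := 1)
    (by rw [← Subgroup.index_eq_card, hj]; exact pow_dvd_pow p (Nat.pos_of_ne_zero hj0))
  set K := Q.comap (QuotientGroup.mk' H)
  have hHK : H ≤ K := fun h hh => by
    show QuotientGroup.mk' H h ∈ Q
    rw [show QuotientGroup.mk' H h = 1 from (QuotientGroup.eq_one_iff h).2 hh]
    exact one_mem Q
  have hKQ : K.index = Q.index := Q.index_comap_of_surjective (QuotientGroup.mk'_surjective H)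
  have hQi : Nat.card Q * Q.index = H.index := by
    rw [Subgroup.card_mul_index, Subgroup.index_eq_card]
  rw [hQ, pow_one] at hQi
  rcases eq_or_lt_of_le hHK with he | hlt
  · exfalso
    rw [← hKQ, ← he] at hQi
    exact hp.out.ne_one ((Nat.mul_eq_right Subgroup.index_ne_zero_of_finite).1 hQi)
  · rw [← hQi, ← hKQ, Subgroup.index_eq_one.2 (hH.2 K hlt), mul_one]

/-- Functions on a normal subgroup, conjugated and composed with a power. -/
theorem conjFun_pow (H : Subgroup P) [H.Normal] (θ : H → ℂ) (g : P) (k : ℕ) :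
    CharTwist.conjFun H (fun h : H => θ (h ^ k)) g =
      fun h : H => CharTwist.conjFun H θ g (h ^ k) := by
  funext h
  refine congrArg θ (Subtype.ext ?_)
  simp [conj_pow]

theorem factorization_card {p a : ℕ} (hp : p.Prime) (h : Nat.card P = p ^ a) :
    (Nat.card P).factorization p = a := by
  rw [h, hp.factorization_pow, Finsupp.single_eq_same]

/-- The base case: a faithful linear character. -/
theorem exponent_le_of_linear {p a : ℕ} [hp : Fact p.Prime] (hP : Nat.card P = p ^ a) {χ : P → ℂ}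
    (hχ : IsIrrCharacter P χ) (h1 : χ 1 = 1) (hfaith : ∀ g, χ g = χ 1 → g = 1) {t : ℕ}
    (hD : (powConj (p ^ a) χ).card ≤ (p - 1) * p ^ t) : a ≤ t + 1 := by
  by_contra ha
  obtain ⟨lam, hlam⟩ :=
    CfsgLib.Char.IsCharacter.exists_linear (CfsgLib.Char.IsIrrCharacter.isCharacter hχ) h1
  have hinj : Function.Injective ((Units.coeHom ℂ).comp lam) := by
    refine (injective_iff_map_eq_one _).2 fun g hg => hfaith g ?_
    rw [h1, hlam]
    exact hg
  haveI := isCyclic_of_injective_ringHom _ hinj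
  obtain ⟨g, hg⟩ := IsCyclic.exists_generator (α := P)
  have hog : orderOf g = p ^ a := by rw [orderOf_eq_card_of_forall_mem_zpowers hg, hP]
  have hcard : Nat.totient (p ^ a) ≤ (powConj (p ^ a) χ).card := by
    rw [powConj, Finset.card_image_of_injOn, Nat.totient_eq_card_coprime]
    · refine le_of_eq (congrArg Finset.card (Finset.filter_congr fun k _ => ?_))
      exact Nat.coprime_comm
    · intro k hk l hl hkl
      have hk' := Finset.mem_range.1 (Finset.mem_filter.1 (Finset.mem_coe.1 hk)).1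
      have hl' := Finset.mem_range.1 (Finset.mem_filter.1 (Finset.mem_coe.1 hl)).1
      have h2 := congrFun hkl g
      simp only [hlam] at h2
      have h3 : g ^ k = g ^ l := hinj h2
      rw [(isOfFinOrder_of_finite g).pow_eq_pow_iff_modEq, hog, Nat.ModEq, Nat.mod_eq_of_lt hk',
        Nat.mod_eq_of_lt hl'] at h3
      exact h3
  rw [Nat.totient_prime_pow hp.out (by omega), mul_comm] at hcard
  have hle : p ^ (a - 1) ≤ p ^ t :=
    Nat.le_of_mul_le_mul_left (hcard.trans hD) (Nat.sub_pos_of_lt hp.out.one_lt)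
  have := (Nat.pow_le_pow_iff_right hp.out.one_lt).1 hle
  omega

/-- The bound. -/
theorem order_bound (p : ℕ) [hp : Fact p.Prime] : ∀ (a : ℕ) {P : Type u} [Group P] [Finite P],
    Nat.card P = p ^ a → ∀ (χ : P → ℂ), IsIrrCharacter P χ → (∀ g, χ g = χ 1 → g = 1) →
    ∀ (f t : ℕ), χ 1 = f → (powConj (p ^ a) χ).card ≤ (p - 1) * p ^ t →
      (p - 1) * a ≤ (f - 1) + (p - 1) * (t + 1) * f := by
  intro a
  induction a using Nat.strong_induction_on with
  | _ a ih =>
  intro P _ _ hP χ hχ hfaith f t hf hD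
  cases nonempty_fintype P
  have hPG : IsPGroup p P := IsPGroup.of_card hP
  haveI := hPG.isNilpotent
  have hf0 : 0 < f := Nat.pos_of_ne_zero fun h0 =>
    CfsgLib.Char.IsIrrCharacter.apply_one_ne_zero hχ (by rw [hf, h0, Nat.cast_zero])
  have hp2 := hp.out.two_le
  obtain ⟨K₀, lam, hK₀⟩ := CfsgLib.Monomial.exists_linear_indFun χ hχ
  by_cases hK₀top : K₀ = ⊤
  · subst hK₀top
    have h1 : χ 1 = 1 := by
      rw [hK₀, CfsgLib.Char.indFun_apply_one, Subgroup.index_top, Nat.cast_one, one_mul, map_one,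
        Units.val_one]
    have := exponent_le_of_linear hP hχ h1 hfaith hD
    have hf1 : f = 1 := by exact_mod_cast hf.symm.trans h1
    rw [hf1, mul_one]
    calc (p - 1) * a ≤ (p - 1) * (t + 1) := Nat.mul_le_mul_left _ this
      _ ≤ _ := Nat.le_add_left _ _
  obtain ⟨H, hH, hK₀H⟩ := (eq_top_or_exists_le_coatom K₀).resolve_left hK₀top
  obtain ⟨hHn, hHi⟩ := index_of_coatom hPG hH
  haveI := hHn
  have hoff : ∀ g, g ∉ H → χ g = 0 := fun g hg => by
    rw [hK₀, ← CfsgLib.Char.indFun_indFun K₀ H hK₀H]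
    exact CfsgLib.Char.indFun_eq_zero_of_normal H _ hg
  -- the constituents of the restriction
  obtain ⟨ψ, hψ, hψc⟩ := CfsgLib.Clifford.exists_constituent_res H hχ
  have hres := CfsgLib.Clifford.res_eq H hχ hψ hψc
  set e := Cfsg.classInner (fun n : H => χ n) ψ with he
  obtain ⟨m, hm⟩ : ∃ m : ℕ, e = m := CfsgLib.Char.IsCharacter.exists_nat_classInner
    (CfsgLib.Clifford.isCharacter_res (CfsgLib.Char.IsIrrCharacter.isCharacter hχ) H) hψ
  have hnorm : Cfsg.classInner (fun n : H => χ n) (fun n : H => χ n) = p := by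
    have h1 := CfsgLib.Char.classInner_irr_self hχ
    rw [Cfsg.classInner] at h1 ⊢
    rw [← Finset.sum_subset (Finset.subset_univ (Finset.univ.filter fun g => g ∈ H))
      (fun g _ hg => by rw [hoff g (by simpa using hg), zero_mul]),
      Finset.sum_subtype (Finset.univ.filter fun g => g ∈ H) (p := fun g => g ∈ H) (by simp)] at h1
    have hc : (Nat.card P : ℂ) = (p : ℂ) * Nat.card H := by
      rw [← Subgroup.card_mul_index H, hHi, Nat.cast_mul, mul_comm]
    rw [hc, mul_inv, mul_assoc] at h1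
    have hp0 : (p : ℂ) ≠ 0 := Nat.cast_ne_zero.2 hp.out.ne_zero
    calc (Nat.card H : ℂ)⁻¹ * ∑ g : H, χ g * conj (χ g)
        = (p : ℂ) * ((p : ℂ)⁻¹ * ((Nat.card H : ℂ)⁻¹ * ∑ g : H, χ g * conj (χ g))) := by
          rw [← mul_assoc (p : ℂ), mul_inv_cancel₀ hp0, one_mul]
      _ = p := by
          rw [show (p : ℂ)⁻¹ * ((Nat.card H : ℂ)⁻¹ * ∑ g : H, χ g * conj (χ g)) = 1 from ?_,
            mul_one]
          exact h1
  have horb := CfsgLib.Clifford.card_orbit H ψ
  have hψi : CharTwist.inertia H ψ = H := by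
    have hle := CharTwist.le_inertia H (CfsgLib.Char.IsIrrCharacter.isClassFunction hψ)
    rcases eq_or_lt_of_le hle with e1 | e1
    · exact e1.symm
    exfalso
    rw [hH.2 _ e1, Subgroup.index_top, Finset.card_eq_one] at horb
    obtain ⟨φ, hφ⟩ := horb
    have hψφ : ψ = φ := Finset.mem_singleton.1 (hφ ▸ CfsgLib.Clifford.self_mem_orbit H ψ)
    rw [hres, hφ, Finset.sum_singleton, ← hψφ, hm, CfsgLib.Char.classInner_smul_left,
      CfsgLib.Char.classInner_smul_right, CfsgLib.Char.classInner_irr_self hψ, mul_one] at hnorm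
    rw [Complex.conj_natCast] at hnorm
    have hmm : m * m = p := by exact_mod_cast hnorm
    rcases (Nat.dvd_prime hp.out).1 ⟨m, hmm.symm⟩ with h2 | h2
    · rw [h2, one_mul] at hmm
      exact hp.out.ne_one hmm.symm
    · rw [h2] at hmm
      have := (Nat.mul_eq_right hp.out.ne_zero).1 hmm
      exact hp.out.ne_one this
  rw [hψi, hHi] at horb
  have hmem : ∀ φ ∈ CfsgLib.Clifford.orbit H ψ, ∃ g, CharTwist.conjFun H ψ g = φ :=
    fun φ hφ => (CfsgLib.Clifford.mem_orbit H).1 hφ
  have hm1 : e = 1 := by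
    rw [hres, hm, CfsgLib.Char.classInner_smul_left, CfsgLib.Char.classInner_smul_right,
      Complex.conj_natCast, CfsgLib.Char.classInner_sum_left,
      Finset.sum_congr rfl (g := fun _ => (1 : ℂ)) fun φ hφ => ?_, Finset.sum_const, nsmul_eq_mul,
      mul_one, horb] at hnorm
    · have h2 : m * (m * p) = p := by exact_mod_cast hnorm
      rw [← mul_assoc] at h2
      have h3 := (Nat.mul_eq_right hp.out.ne_zero).1 h2
      rw [hm, Nat.eq_one_of_mul_eq_one_left h3, Nat.cast_one]
    · obtain ⟨g, rfl⟩ := hmem φ hφ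
      rw [CfsgLib.Char.classInner_sum_right, Finset.sum_eq_single (CharTwist.conjFun H ψ g)]
      · exact CfsgLib.Char.classInner_irr_self (CharTwist.isIrrCharacter_conjFun H hψ g)
      · intro φ' hφ' hne
        obtain ⟨g', rfl⟩ := hmem φ' hφ'
        exact CfsgLib.Char.classInner_irr_of_ne (CharTwist.isIrrCharacter_conjFun H hψ g)
          (CharTwist.isIrrCharacter_conjFun H hψ g') (Ne.symm hne)
      · exact fun hn => absurd hφ hn
  rw [hm1, one_smul] at hres
  obtain ⟨f₁, hf₁⟩ : ∃ f₁ : ℕ, ψ 1 = f₁ :=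
    ⟨_, (CfsgLib.CharTools.irr_degree_cast ⟨ψ, hψ⟩).symm⟩
  have hff : f = p * f₁ := by
    have h1 := CfsgLib.Clifford.apply_one_eq H hχ hψ hψc
    rw [← he, hm1, hψi, hHi, one_mul, hf, hf₁] at h1
    exact_mod_cast h1
  have hf₁0 : 0 < f₁ := Nat.pos_of_ne_zero fun h0 => by rw [h0, mul_zero] at hff; omega
  -- the kernel
  obtain ⟨d, σ, hσ, hσψ⟩ := id hψ
  let K : Subgroup H := MonoidHom.ker σ
  have hK : ∀ h : H, h ∈ K ↔ ψ h = ψ 1 := fun h => by
    rw [MonoidHom.mem_ker, ← hσψ, Representation.char_one, CfsgLib.Char.character_eq_degree_iff]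
    exact Iff.rfl
  obtain ⟨a₀, -, hHc⟩ := (Nat.dvd_prime_pow hp.out).1 (hP ▸ Subgroup.card_subgroup_dvd_card H)
  have haH : a = a₀ + 1 := by
    have h1 := Subgroup.card_mul_index H
    rw [hHc, hHi, hP, ← pow_succ] at h1
    exact (Nat.pow_right_injective hp2 h1).symm
  obtain ⟨a₁, ha₁le, hKc⟩ : ∃ a₁ ≤ a₀, Nat.card (H ⧸ K) = p ^ a₁ :=
    (Nat.dvd_prime_pow hp.out).1 (hHc ▸ Subgroup.card_quotient_dvd_card K)
  obtain ⟨η, hη, hηψ⟩ := CharTwist.exists_irr_quotient hψ K fun h hh => (hK h).1 hh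
  have hη1 : η 1 = f₁ := by rw [← hf₁, hηψ]; rfl
  have hηfaith : ∀ q, η q = η 1 → q = 1 := fun q hq => by
    obtain ⟨h, rfl⟩ := QuotientGroup.mk'_surjective K q
    refine (QuotientGroup.eq_one_iff h).2 ((hK h).2 ?_)
    rw [hηψ]
    simpa using hq
  have hdvdH : ∀ h : H, orderOf h ∣ p ^ a := fun h =>
    hP ▸ (Subgroup.orderOf_coe h).symm ▸ orderOf_dvd_natCard (h : P)
  have hbound : ∀ D t' : ℕ, (powConj (p ^ a) ψ).card ≤ D → D ≤ (p - 1) * p ^ t' →
      (p - 1) * a₁ ≤ (f₁ - 1) + (p - 1) * (t' + 1) * f₁ := by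
    intro D t' h1 h2
    refine ih a₁ (by omega) hKc η hη hηfaith f₁ t' hη1 (le_trans ?_ (h1.trans h2))
    refine Finset.card_le_card_of_injOn (fun φ h => φ (QuotientGroup.mk' K h)) (fun φ hφ => ?_)
      fun φ _ φ' _ hφφ => funext fun q => ?_
    · obtain ⟨k, hk, rfl⟩ := (mem_powConj (pow_pos hp.out.pos _)
        fun q => hKc ▸ orderOf_dvd_natCard q).1 (Finset.mem_coe.1 hφ)
      refine Finset.mem_coe.2 ((mem_powConj (pow_pos hp.out.pos _) hdvdH).2 ⟨k, ?_, funext fun h => ?_⟩)
      · rcases Nat.eq_zero_or_pos a₁ with h0 | h0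
        · have hH1 : H = H := rfl
          exfalso
          haveI : Subsingleton (H ⧸ K) :=
            (Nat.card_eq_one_iff_unique.1 (by rw [hKc, h0, pow_zero])).1
          have hc : ∀ h : H, ψ h = ψ 1 := fun h =>
            (hK h).1 ((QuotientGroup.eq_one_iff h).1 (Subsingleton.elim _ _))
          have hP1 : ∀ h : H, h = 1 := fun h => by
            refine Subtype.ext (hfaith h ?_)
            have h3 := congrFun hres h
            have h4 := congrFun hres 1
            simp only [Finset.sum_apply, OneMemClass.coe_one] at h3 h4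
            rw [h3, h4]
            refine Finset.sum_congr rfl fun φ hφ => ?_
            obtain ⟨g, rfl⟩ := hmem φ hφ
            exact (hc _).trans (hc _).symm
          have hinert : CharTwist.inertia H ψ = ⊤ := by
            refine eq_top_iff.2 fun g _ => CharTwist.mem_inertia.2 (funext fun h => ?_)
            exact (hc _).trans (hc h).symm
          rw [hψi] at hinert
          exact hH.1 hinert
        · exact (Nat.coprime_pow_right_iff (by omega) _ _).2
            ((Nat.coprime_pow_right_iff h0 _ _).1 hk)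
      · rw [hηψ]
        show η ((QuotientGroup.mk' K h) ^ k) = η (QuotientGroup.mk' K (h ^ k))
        rw [map_pow]
    · obtain ⟨h, rfl⟩ := QuotientGroup.mk'_surjective K q
      exact congrFun hφφ h
  -- fibres of the Galois conjugates
  have hNpos : 0 < p ^ a := pow_pos hp.out.pos _
  have hdvdP : ∀ g : P, orderOf g ∣ p ^ a := fun g => hP ▸ orderOf_dvd_natCard g
  have hcop : ∀ {k : ℕ}, k.Coprime (p ^ a) → k.Coprime (Nat.card H) := fun hk =>
    Nat.Coprime.of_dvd_right (hP ▸ Subgroup.card_subgroup_dvd_card H) hk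
  have hfib : ∀ k k' : ℕ, k.Coprime (p ^ a) → k'.Coprime (p ^ a) →
      (fun g => χ (g ^ k)) = (fun g => χ (g ^ k')) →
      ∃ g, CharTwist.conjFun H (fun h : H => ψ (h ^ k)) g = fun h : H => ψ (h ^ k') := by
    intro k k' hk hk' hkk
    have h1 : ∀ j : ℕ, j.Coprime (p ^ a) →
        Cfsg.classInner (fun h : H => χ ((h : P) ^ j)) (fun h : H => ψ (h ^ j)) = 1 := fun j hj => by
      rw [← hm1, he, Cfsg.classInner, Cfsg.classInner]
      refine congrArg _ (Fintype.sum_equiv (powCoprime (G := H) (hcop hj).symm) _ _ fun h => ?_)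
      simp [powCoprime_apply]
    have hkP : k.Coprime (Nat.card P) := by rwa [hP]
    refine CfsgLib.Clifford.exists_conjFun_eq H (CfsgLib.CharGalois.isIrrCharacter_powMap hkP hχ)
      (CfsgLib.CharGalois.isIrrCharacter_powMap (hcop hk) hψ)
      (CfsgLib.CharGalois.isIrrCharacter_powMap (hcop hk') hψ) (by rw [h1 k hk]; exact one_ne_zero) ?_
    have h2 : (fun h : H => χ ((h : P) ^ k)) = fun h : H => χ ((h : P) ^ k') :=
      funext fun h => congrFun hkk (h : P)
    rw [h2, h1 k' hk']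
    exact one_ne_zero
  -- the stabilizer of the kernel
  let S : Subgroup P :=
    { carrier := {g | ∀ h : H, h ∈ K ↔ (⟨g * h * g⁻¹, hHn.conj_mem h h.2 g⟩ : H) ∈ K}
      one_mem' := fun h => by simp
      mul_mem' := fun {g g'} hg hg' h => by
        rw [hg' h, hg]
        simp [mul_assoc]
      inv_mem' := fun {g} hg h => by
        rw [hg ⟨g⁻¹ * h * g⁻¹⁻¹, hHn.conj_mem h h.2 g⁻¹⟩]
        simp [mul_assoc] }
  have hHS : H ≤ S := fun g hg h => by
    have := (MonoidHom.normal_ker σ).mem_comm_iff (a := (⟨g, hg⟩ : H)⁻¹)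
      (b := (⟨g, hg⟩ : H) * h)
    simp only [inv_mul_cancel_left] at this
    exact this
  have hcardB : (powConj (p ^ a) ψ).card ≤
      (if S = ⊤ then p else 1) * (powConj (p ^ a) χ).card := by
    refine Finset.card_le_mul_card_image_of_maps_to (f := fun φ =>
      if hφ : ∃ k, k.Coprime (p ^ a) ∧ φ = fun h : H => ψ (h ^ k) then
        fun g => χ (g ^ hφ.choose) else χ) (fun φ hφ => ?_) _ fun b _ => ?_
    · rw [dif_pos ((mem_powConj hNpos hdvdH).1 hφ)]
      exact (mem_powConj hNpos hdvdP).2 ⟨_, ((mem_powConj hNpos hdvdH).1 hφ).choose_spec.1, rfl⟩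
    set F := (powConj (p ^ a) ψ).filter fun φ =>
      (if hφ : ∃ k, k.Coprime (p ^ a) ∧ φ = fun h : H => ψ (h ^ k) then
        fun g => χ (g ^ hφ.choose) else χ) = b
    rcases F.eq_empty_or_nonempty with h0 | ⟨φ₀, hφ₀⟩
    · show F.card ≤ _
      rw [h0, Finset.card_empty]
      exact Nat.zero_le _
    show F.card ≤ _
    obtain ⟨hφ₀m, hφ₀b⟩ := Finset.mem_filter.1 hφ₀
    have h₀ := (mem_powConj hNpos hdvdH).1 hφ₀m
    rw [dif_pos h₀] at hφ₀b
    have hrel : ∀ φ ∈ F, ∃ g, CharTwist.conjFun H φ₀ g = φ := by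
      intro φ hφ
      obtain ⟨hφm, hφb⟩ := Finset.mem_filter.1 hφ
      have h₁ := (mem_powConj hNpos hdvdH).1 hφm
      rw [dif_pos h₁] at hφb
      obtain ⟨g, hg⟩ := hfib _ _ h₀.choose_spec.1 h₁.choose_spec.1 (hφ₀b.trans hφb.symm)
      rw [← h₀.choose_spec.2, ← h₁.choose_spec.2] at hg
      exact ⟨g, hg⟩
    have hφ₀irr : IsIrrCharacter H φ₀ := by
      rw [h₀.choose_spec.2]
      exact CfsgLib.CharGalois.isIrrCharacter_powMap (hcop h₀.choose_spec.1) hψ
    have hφ₀in := CharTwist.le_inertia H (CfsgLib.Char.IsIrrCharacter.isClassFunction hφ₀irr)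
    split_ifs with hS
    · refine (Finset.card_le_card fun φ hφ => (CfsgLib.Clifford.mem_orbit H).2 (hrel φ hφ)).trans ?_
      rw [CfsgLib.Clifford.card_orbit]
      exact hHi ▸ Nat.le_of_dvd (Nat.pos_of_ne_zero Subgroup.index_ne_zero_of_finite)
        (Subgroup.index_dvd_of_le hφ₀in)
    · have hSH : S = H := by
        rcases eq_or_lt_of_le hHS with e1 | e1
        · exact e1.symm
        · exact absurd (hH.2 S e1) hS
      refine Finset.card_le_one.2 fun φ hφ φ' hφ' => ?_
      suffices hh : ∀ ρ' ∈ F, ρ' = φ₀ by rw [hh φ hφ, hh φ' hφ']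
      intro ρ' hρ'
      obtain ⟨g, rfl⟩ := hrel ρ' hρ'
      refine CharTwist.mem_inertia.1 (hφ₀in ?_)
      rw [← hSH]
      intro h
      have h₁ := (mem_powConj hNpos hdvdH).1 (Finset.mem_filter.1 hρ').1
      have hker : ∀ (j : ℕ), j.Coprime (p ^ a) → ∀ h : H, h ∈ K ↔ ψ (h ^ j) = ψ (1 ^ j) := by
        intro j hj h
        rw [one_pow, ← hK]
        refine ⟨fun hh => pow_mem hh j, fun hh => ?_⟩
        obtain ⟨i, hi⟩ := exists_pow_eq_self_of_coprime (G := H) (x := h) (n := j)
          (Nat.Coprime.of_dvd_right (hdvdH h) hj)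
        rw [← hi]
        exact pow_mem hh i
      rw [hker _ h₁.choose_spec.1 h, hker _ h₀.choose_spec.1]
      have e1 := congrFun h₁.choose_spec.2 h
      have e2 := congrFun h₁.choose_spec.2 1
      have e3 := congrFun h₀.choose_spec.2 ⟨g * h * g⁻¹, hHn.conj_mem h h.2 g⟩
      have e4 := congrFun h₀.choose_spec.2 1
      rw [← e1, ← e2, ← e3, ← e4]
      show φ₀ _ = φ₀ ⟨g * ((1 : H) : P) * g⁻¹, hHn.conj_mem _ (1 : H).2 g⟩ ↔ _
      have : (⟨g * ((1 : H) : P) * g⁻¹, hHn.conj_mem _ (1 : H).2 g⟩ : H) = 1 :=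
        Subtype.ext (by simp)
      rw [this]
  have hKfaith : ∀ h : H, (∀ g : P, (⟨g * h * g⁻¹, hHn.conj_mem h h.2 g⟩ : H) ∈ K) → h = 1 := by
    intro h hh
    refine Subtype.ext (hfaith h ?_)
    have h3 := congrFun hres h
    have h4 := congrFun hres 1
    simp only [Finset.sum_apply, OneMemClass.coe_one] at h3 h4
    rw [h3, h4]
    refine Finset.sum_congr rfl fun φ hφ => ?_
    obtain ⟨g, rfl⟩ := hmem φ hφ
    show ψ _ = ψ _
    rw [(hK _).1 (hh g)]
    exact congrArg ψ (Subtype.ext (by simp))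
  obtain ⟨p', rfl⟩ : ∃ p', p = p' + 1 := ⟨p - 1, by omega⟩
  simp only [Nat.add_sub_cancel] at hD hbound ⊢
  by_cases hS : S = ⊤
  · have hKbot : K = ⊥ := (Subgroup.eq_bot_iff_forall K).2 fun h hh =>
      hKfaith h fun g => ((show g ∈ S by rw [hS]; exact Subgroup.mem_top g) h).1 hh
    have ha1 : a₁ = a₀ := Nat.pow_right_injective hp2 (by
      show (p' + 1) ^ a₁ = (p' + 1) ^ a₀
      rw [← hKc, ← hHc, hKbot]
      exact Nat.card_congr (QuotientGroup.quotientBot (G := H)).toEquiv)
    rw [if_pos hS] at hcardB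
    have h1 := hbound _ (t + 1) hcardB (by
      calc (p' + 1) * (powConj ((p' + 1) ^ a) χ).card ≤ (p' + 1) * (p' * (p' + 1) ^ t) :=
            Nat.mul_le_mul_left _ hD
        _ = p' * (p' + 1) ^ (t + 1) := by ring)
    obtain ⟨f₂, rfl⟩ : ∃ f₂, f₁ = f₂ + 1 := ⟨f₁ - 1, by omega⟩
    have hp' : 1 ≤ p' := by omega
    subst ha1
    rw [haH, hff, Nat.add_sub_cancel] at *
    rw [show (p' + 1) * (f₂ + 1) - 1 = (p' + 1) * f₂ + p' by
      rw [mul_add, mul_one]; omega]
    nlinarith [Nat.mul_le_mul hp' hp', Nat.zero_le (p' * t), Nat.zero_le (p' * f₂),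
      Nat.zero_le (p' * p' * t * f₂), Nat.mul_le_mul_left p' (Nat.zero_le f₂)]
  · have hcnt : a₀ ≤ (p' + 1) * a₁ := by
      have hinj : Function.Injective (fun (h : H) (i : P ⧸ H) =>
          QuotientGroup.mk' K ⟨i.out * h * i.out⁻¹, hHn.conj_mem h h.2 i.out⟩) := by
        intro h h' hh
        rw [← inv_mul_eq_one]
        refine hKfaith _ fun g => ?_
        set i : P ⧸ H := QuotientGroup.mk g
        have hg0 : g * i.out⁻¹ ∈ H := by
          have h1 : i.out⁻¹ * g ∈ H := QuotientGroup.eq.1 (QuotientGroup.out_eq' i)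
          have h2 := hHn.conj_mem _ h1 i.out
          simpa [mul_assoc] using h2
        have h3 := QuotientGroup.eq.1 (congrFun hh i)
        have h4 := (MonoidHom.normal_ker σ).conj_mem _ h3 ⟨_, hg0⟩
        convert h4 using 1
        refine Subtype.ext ?_
        simp [mul_assoc]
      have h5 := Nat.card_le_card_of_injective _ hinj
      rw [Nat.card_fun, hKc, hHc, ← Subgroup.index_eq_card H, hHi, ← pow_mul] at h5
      rw [mul_comm]
      exact (Nat.pow_le_pow_iff_right (by omega)).1 h5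
    rw [if_neg hS, one_mul] at hcardB
    have h1 := hbound _ t hcardB hD
    obtain ⟨f₂, rfl⟩ : ∃ f₂, f₁ = f₂ + 1 := ⟨f₁ - 1, by omega⟩
    rw [haH, hff, Nat.add_sub_cancel] at *
    rw [show (p' + 1) * (f₂ + 1) - 1 = (p' + 1) * f₂ + p' by
      rw [mul_add, mul_one]; omega]
    nlinarith [Nat.mul_le_mul_left p' hcnt, Nat.mul_le_mul_left (p' + 1) h1]

end CfsgLib.PGroupField
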